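import Cfsg.Prelude.Def_MonsterType
import Cfsg.Agent.Lib.LargeExtra.Basic
import Cfsg.Agent.Lib.PGroups.Frattini
import Mathlib

/-!
# The centraliser of an involution of the normal subgroup in the holomorph of `E_{2^{n+1}}`

Owner: helper83.
-/

set_option autoImplicit false
set_option linter.style.haveILetI false
set_option linter.unusedSectionVars false

open scoped commutatorElement

namespace Cfsg.Agent.Lib.Holomorph83

abbrev F2 := ZMod 2
abbrev Vec (m : ℕ) := Fin m → F2

/-- The first basis vector. -/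
def e0 (n : ℕ) : Vec (n + 1) := Fin.cons 1 0

theorem e0_ne (n : ℕ) : e0 n ≠ 0 := fun h => by
  have := congrFun h 0
  simp [e0] at this

theorem cons_eq (n : ℕ) (a : F2) (w : Vec n) : (Fin.cons a w : Vec (n + 1)) = a • e0 n + Fin.cons 0 w := by
  funext i
  refine Fin.cases ?_ (fun j => ?_) i <;> simp [e0]

/-- Coordinates in which a given non-zero vector is the first basis vector. -/
theorem exists_coord {V : Type*} [AddCommGroup V] [Module F2 V] [Module.Finite F2 V] {v : V} (hv : v ≠ 0)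
    {m : ℕ} (hm : Module.finrank F2 V = m + 1) : ∃ e : V ≃ₗ[F2] Vec (m + 1), e v = e0 m := by
  obtain ⟨f, hf⟩ : ∃ f : V →ₗ[F2] F2, f v = 1 := by
    obtain ⟨f, hf⟩ := LinearMap.exists_extend ((LinearEquiv.toSpanNonzeroSingleton F2 V v hv).symm.toLinearMap)
    refine ⟨f, ?_⟩
    have := LinearMap.congr_fun hf ⟨v, Submodule.mem_span_singleton_self v⟩
    simp only [LinearMap.comp_apply, Submodule.subtype_apply] at this
    rw [this]
    exact (LinearEquiv.symm_apply_eq _).2 (Subtype.ext (one_smul F2 v).symm)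
  have hs : Function.Surjective f := fun c => ⟨c • v, by rw [map_smul, hf, smul_eq_mul, mul_one]⟩
  have hker : Module.finrank F2 (LinearMap.ker f) = m := by
    have := f.finrank_range_add_finrank_ker
    rw [LinearMap.range_eq_top.2 hs, finrank_top, Module.finrank_self, hm] at this
    omega
  let g : LinearMap.ker f ≃ₗ[F2] Vec m := LinearEquiv.ofFinrankEq _ _ (by rw [hker, Module.finrank_fin_fun])
  have hr : ∀ x : V, x - f x • v ∈ LinearMap.ker f := fun x => by
    rw [LinearMap.mem_ker, map_sub, map_smul, hf, smul_eq_mul, mul_one, sub_self]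
  let π : V →ₗ[F2] LinearMap.ker f := LinearMap.codRestrict _ (LinearMap.id - f.smulRight v) hr
  let L : V →ₗ[F2] Vec (m + 1) :=
    { toFun := fun x => (Fin.cons (f x) (g (π x)) : Vec (m + 1))
      map_add' := fun x y => by
        funext i
        refine Fin.cases (by simp) (fun j => by simp) i
      map_smul' := fun c x => by
        funext i
        refine Fin.cases (by simp) (fun j => by simp) i }
  have hinj : Function.Injective L := fun x y hxy => by
    have h0 : f x = f y := congrFun hxy 0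
    have h1 : g ⟨_, hr x⟩ = g ⟨_, hr y⟩ := funext fun j => congrFun hxy j.succ
    have h2 := congrArg Subtype.val (g.injective h1)
    simp only [h0] at h2
    exact sub_left_injective h2
  refine ⟨LinearEquiv.ofBijective L ⟨hinj, (LinearMap.injective_iff_surjective_of_finrank_eq_finrank
    (by rw [hm, Module.finrank_fin_fun])).1 hinj⟩, ?_⟩
  show Fin.cons (f v) (g ⟨_, hr v⟩) = e0 m
  have : (⟨_, hr v⟩ : LinearMap.ker f) = 0 := Subtype.ext (by simp [hf])
  rw [this, map_zero, hf]
  rfl

/-- Linear automorphisms are transitive on non-zero vectors. -/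
theorem exists_move {m : ℕ} {v w : Vec m} (hv : v ≠ 0) (hw : w ≠ 0) : ∃ B : Vec m ≃ₗ[F2] Vec m, B v = w := by
  cases m with
  | zero => exact absurd (Subsingleton.elim v 0) hv
  | succ k =>
    obtain ⟨a, ha⟩ := exists_coord hv (m := k) (Module.finrank_fin_fun F2)
    obtain ⟨b, hb⟩ := exists_coord hw (m := k) (Module.finrank_fin_fun F2)
    exact ⟨a.trans b.symm, by rw [LinearEquiv.trans_apply, ha, ← hb, LinearEquiv.symm_apply_apply]⟩

/-- The linear group has no non-trivial normal `2`-subgroup. -/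
theorem eq_bot_of_normal {m : ℕ} (hm : 1 ≤ m) (N : Subgroup (Vec m ≃ₗ[F2] Vec m)) (hn : N.Normal)
    (hp : IsPGroup 2 N) : N = ⊥ := by
  haveI : Fact (Nat.Prime 2) := ⟨Nat.prime_two⟩
  letI : MulAction N (Vec m) :=
    { smul := fun g v => (g : Vec m ≃ₗ[F2] Vec m) v, one_smul := fun _ => rfl, mul_smul := fun _ _ _ => rfl }
  obtain ⟨v, hv, hv0⟩ := hp.exists_fixed_point_of_prime_dvd_card_of_fixed_point (α := Vec m)
    (by rw [Nat.card_fun, Nat.card_zmod, Nat.card_fin]; exact dvd_pow_self 2 (by omega))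
    (show (0 : Vec m) ∈ MulAction.fixedPoints N (Vec m) from fun g => map_zero (g : Vec m ≃ₗ[F2] Vec m))
  rw [eq_bot_iff]
  intro g hg
  rw [Subgroup.mem_bot]
  refine LinearEquiv.ext fun w => ?_
  by_cases hw : w = 0
  · rw [hw, map_zero, map_zero]
  obtain ⟨B, rfl⟩ := exists_move (Ne.symm hv0) hw
  have := hv ⟨_, hn.conj_mem g hg B⁻¹⟩
  change (B⁻¹ * g * B⁻¹⁻¹) v = v at this
  rw [inv_inv] at this
  show g (B v) = B v
  exact (LinearEquiv.symm_apply_eq B).1 this

/-- `GL_n(2)` as linear automorphisms. -/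
noncomputable def linGL (m : ℕ) : (Vec m ≃ₗ[F2] Vec m) ≃* Matrix.GeneralLinearGroup (Fin m) F2 :=
  (LinearMap.GeneralLinearGroup.generalLinearEquiv F2 (Vec m)).symm.trans
    (Matrix.GeneralLinearGroup.toLin (n := Fin m) (R := F2)).symm

variable {G : Type*} [Group G] [Finite G] {n : ℕ}

/-- The setting: a self-centralising normal copy of `F₂^{n+1}` on which `M` induces every automorphism. -/
structure Hol (ρ : G →* (Vec (n + 1) ≃ₗ[F2] Vec (n + 1))) (ι : Vec (n + 1) → G) (M : Subgroup G) : Prop where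
  ι_add : ∀ a b, ι (a + b) = ι a * ι b
  ι_inj : Function.Injective ι
  ker : ∀ g, ρ g = 1 ↔ g ∈ Set.range ι
  conj : ∀ g a, g * ι a * g⁻¹ = ι (ρ g a)
  surj : ∀ A, ∃ m ∈ M, ρ m = A
  inj : ∀ m ∈ M, ρ m = 1 → m = 1

/-- Coordinates for the holomorph. -/
theorem exists_hol (U M : Subgroup G) [U.Normal] (hU : Cfsg.IsElementaryAbelian 2 U)
    (hUcard : Nat.card ↥U = 2 ^ (n + 1)) (hUM : U ⊓ M = ⊥) (hUM' : U ⊔ M = ⊤)
    (hfaith : ∀ m ∈ M, (∀ u ∈ U, m * u * m⁻¹ = u) → m = 1)
    (hfull : ∀ φ : ↥U ≃* ↥U, ∃ m ∈ M, ∀ u : ↥U, ((φ u : ↥U) : G) = m * u * m⁻¹)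
    {z : G} (hzU : z ∈ U) (hz : z ≠ 1) :
    ∃ (ρ : G →* (Vec (n + 1) ≃ₗ[F2] Vec (n + 1))) (ι : Vec (n + 1) → G),
      Hol ρ ι M ∧ ι (e0 n) = z ∧ ∀ g, g ∈ U ↔ g ∈ Set.range ι := by
  haveI : Fact (Nat.Prime 2) := ⟨Nat.prime_two⟩
  letI : CommGroup U := { (inferInstance : Group U) with mul_comm := hU.1.is_comm.comm }
  letI : Module F2 (Additive U) := AddCommGroup.zmodModule (n := 2) (fun x => by
    refine Additive.toMul.injective (Subtype.ext ?_)
    show ((Additive.toMul x : U) : G) ^ 2 = 1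
    exact hU.2 _ (Additive.toMul x).2)
  haveI : Module.Finite F2 (Additive U) := Module.Finite.of_finite
  have hrank : Module.finrank F2 (Additive U) = n + 1 := by
    have h := Module.natCard_eq_pow_finrank (K := F2) (V := Additive U)
    rw [Nat.card_congr Additive.toMul, hUcard, Nat.card_zmod] at h
    exact (Nat.pow_right_injective le_rfl h).symm
  obtain ⟨e, he⟩ := exists_coord (v := Additive.ofMul (⟨z, hzU⟩ : U))
    (fun h => hz (congrArg (fun x : Additive U => ((Additive.toMul x : U) : G)) h)) hrank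
  let c : U ≃* Multiplicative (Vec (n + 1)) :=
    { toFun := fun u => Multiplicative.ofAdd (e (Additive.ofMul u))
      invFun := fun v => Additive.toMul (e.symm (Multiplicative.toAdd v))
      left_inv := fun u => by simp
      right_inv := fun v => by simp
      map_mul' := fun a b => by
        rw [ofMul_mul, map_add, ofAdd_add] }
  let aut : MulAut U → (Vec (n + 1) →+ Vec (n + 1)) := fun φ => AddMonoidHom.mk'
    (fun v => Multiplicative.toAdd (c (φ (c.symm (Multiplicative.ofAdd v))))) fun v w => by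
      simp [ofAdd_add]
  let lift : MulAut U →* (Vec (n + 1) ≃ₗ[F2] Vec (n + 1)) :=
    { toFun := fun φ =>
        { (aut φ).toZModLinearMap 2 with
          invFun := aut φ⁻¹
          left_inv := fun v => by
            show Multiplicative.toAdd (c (φ⁻¹ (c.symm (c (φ (c.symm (Multiplicative.ofAdd v))))))) = v
            simp
          right_inv := fun v => by
            show Multiplicative.toAdd (c (φ (c.symm (c (φ⁻¹ (c.symm (Multiplicative.ofAdd v))))))) = v
            simp }
      map_one' := LinearEquiv.ext fun v => by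
        show Multiplicative.toAdd (c (c.symm (Multiplicative.ofAdd v))) = v
        simp
      map_mul' := fun φ ψ => LinearEquiv.ext fun v => by
        show Multiplicative.toAdd (c (φ (ψ (c.symm (Multiplicative.ofAdd v))))) =
          Multiplicative.toAdd (c (φ (c.symm (c (ψ (c.symm (Multiplicative.ofAdd v)))))))
        simp }
  let ρ := lift.comp (MulAut.conjNormal : G →* MulAut U)
  let ι : Vec (n + 1) → G := fun v => ((c.symm (Multiplicative.ofAdd v) : U) : G)
  have hlift : ∀ φ v, lift φ v = Multiplicative.toAdd (c (φ (c.symm (Multiplicative.ofAdd v)))) :=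
    fun _ _ => rfl
  have hrange : ∀ g, g ∈ U ↔ g ∈ Set.range ι := fun g =>
    ⟨fun hg => ⟨Multiplicative.toAdd (c ⟨g, hg⟩), by simp [ι]⟩, by rintro ⟨v, rfl⟩; exact SetLike.coe_mem _⟩
  have hdec : ∀ g : G, ∃ u ∈ U, ∃ m ∈ M, u * m = g := fun g =>
    Subgroup.mem_sup_of_normal_left.1 (hUM'.symm ▸ Subgroup.mem_top g)
  refine ⟨ρ, ι, ⟨fun a b => by simp [ι, ofAdd_add], fun a b h => ?_, fun g => ?_, fun g a => ?_,
    fun A => ?_, fun m hm h => ?_⟩, ?_, hrange⟩
  · exact Multiplicative.ofAdd.injective (c.symm.injective (Subtype.ext h))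
  · rw [← hrange]
    constructor
    · intro h
      obtain ⟨u, hu, m, hm, rfl⟩ := hdec g
      have : m = 1 := by
        refine hfaith m hm fun v hv => ?_
        have h1 := LinearEquiv.congr_fun h (Multiplicative.toAdd (c ⟨v, hv⟩))
        rw [MonoidHom.comp_apply, hlift] at h1
        simp only [ofAdd_toAdd, MulEquiv.symm_apply_apply] at h1
        have h2 := congrArg Subtype.val (c.injective (Multiplicative.toAdd.injective h1))
        rw [MulAut.conjNormal_apply] at h2
        have h3 : m * v * m⁻¹ ∈ U := Subgroup.Normal.conj_mem inferInstance v hv m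
        calc m * v * m⁻¹ = u⁻¹ * (u * m * v * (u * m)⁻¹) * u := by group
          _ = u⁻¹ * v * u := by rw [h2]
          _ = v := by
            rw [mul_assoc, show v * u = u * v from congrArg Subtype.val (hU.1.is_comm.comm ⟨v, hv⟩ ⟨u, hu⟩),
              inv_mul_cancel_left]
      rw [this, mul_one]
      exact hu
    · intro hg
      refine LinearEquiv.ext fun v => ?_
      rw [MonoidHom.comp_apply, hlift]
      have : MulAut.conjNormal g (c.symm (Multiplicative.ofAdd v)) = c.symm (Multiplicative.ofAdd v) := by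
        refine Subtype.ext ?_
        rw [MulAut.conjNormal_apply, show g * _ = _ * g from
          congrArg Subtype.val (hU.1.is_comm.comm ⟨g, hg⟩ (c.symm (Multiplicative.ofAdd v))), mul_inv_cancel_right]
      rw [this, MulEquiv.apply_symm_apply]
      rfl
  · simp only [ρ, MonoidHom.comp_apply, hlift, ι, ofAdd_toAdd, MulEquiv.symm_apply_apply,
      MulAut.conjNormal_apply]
  · let φ : U ≃* U := (c.trans (AddEquiv.toMultiplicative A.toAddEquiv)).trans c.symm
    obtain ⟨m, hm, hmφ⟩ := hfull φ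
    refine ⟨m, hm, LinearEquiv.ext fun v => ?_⟩
    rw [MonoidHom.comp_apply, hlift]
    have : MulAut.conjNormal m (c.symm (Multiplicative.ofAdd v)) = φ (c.symm (Multiplicative.ofAdd v)) :=
      Subtype.ext (by rw [MulAut.conjNormal_apply, hmφ])
    rw [this]
    simp [φ]
  · refine hfaith m hm fun v hv => ?_
    have h1 := LinearEquiv.congr_fun h (Multiplicative.toAdd (c ⟨v, hv⟩))
    rw [MonoidHom.comp_apply, hlift] at h1
    simp only [ofAdd_toAdd, MulEquiv.symm_apply_apply] at h1
    have h2 := congrArg Subtype.val (c.injective (Multiplicative.toAdd.injective h1))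
    rwa [MulAut.conjNormal_apply] at h2
  · show ((c.symm (Multiplicative.ofAdd (e0 n)) : U) : G) = z
    rw [← he]
    show ((c.symm (c ⟨z, hzU⟩) : U) : G) = z
    rw [MulEquiv.symm_apply_apply]

/-- The stabiliser of the first basis vector. -/
def stab (n : ℕ) : Subgroup (Vec (n + 1) ≃ₗ[F2] Vec (n + 1)) where
  carrier := {A | A (e0 n) = e0 n}
  one_mem' := rfl
  mul_mem' := fun {A B} (hA : A (e0 n) = e0 n) (hB : B (e0 n) = e0 n) => show A (B (e0 n)) = e0 n by rw [hB, hA]
  inv_mem' := fun {A} (hA : A (e0 n) = e0 n) => (LinearEquiv.symm_apply_eq A).2 hA.symm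

theorem tail_stab {A : Vec (n + 1) ≃ₗ[F2] Vec (n + 1)} (hA : A ∈ stab n) (x : Vec (n + 1)) :
    Fin.tail (A x) = Fin.tail (A (Fin.cons 0 (Fin.tail x))) := by
  conv_lhs => rw [← Fin.cons_self_tail x, cons_eq, map_add, map_smul, show A (e0 n) = e0 n from hA]
  funext j
  simp [Fin.tail, e0]

/-- The quotient action. -/
def tailHom (n : ℕ) : stab n →* (Vec n ≃ₗ[F2] Vec n) where
  toFun A :=
    { toFun := fun w => Fin.tail (A.1 (Fin.cons 0 w))
      map_add' := fun v w => by
        rw [show (Fin.cons (0 : F2) (v + w) : Vec (n + 1)) = Fin.cons 0 v + Fin.cons 0 w by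
          funext i; refine Fin.cases ?_ (fun j => ?_) i <;> simp, map_add]
        rfl
      map_smul' := fun r w => by
        rw [show (Fin.cons (0 : F2) (r • w) : Vec (n + 1)) = r • Fin.cons 0 w by
          funext i; refine Fin.cases ?_ (fun j => ?_) i <;> simp, map_smul]
        rfl
      invFun := fun w => Fin.tail (A.1.symm (Fin.cons 0 w))
      left_inv := fun w => by
        have h1 := tail_stab ((stab n).inv_mem A.2) (A.1 (Fin.cons 0 w))
        change Fin.tail (A.1.symm _) = Fin.tail (A.1.symm _) at h1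
        simp only []
        rw [← h1, LinearEquiv.symm_apply_apply, Fin.tail_cons]
      right_inv := fun w => by
        have h1 := tail_stab A.2 (A.1.symm (Fin.cons 0 w))
        simp only []
        rw [← h1, LinearEquiv.apply_symm_apply, Fin.tail_cons] }
  map_one' := LinearEquiv.ext fun w => Fin.tail_cons (α := fun _ => F2) 0 w
  map_mul' A B := LinearEquiv.ext fun w => by
    show Fin.tail (A.1 (B.1 (Fin.cons 0 w))) = Fin.tail (A.1 (Fin.cons 0 (Fin.tail (B.1 (Fin.cons 0 w)))))
    exact tail_stab A.2 _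

/-- Block diagonal automorphisms. -/
def emb {n : ℕ} : (Vec n ≃ₗ[F2] Vec n) →* (Vec (n + 1) ≃ₗ[F2] Vec (n + 1)) where
  toFun B :=
    { toFun := fun x => Fin.cons (x 0) (B (Fin.tail x))
      map_add' := fun x y => by
        funext i
        refine Fin.cases (by simp) (fun j => ?_) i
        simp [show Fin.tail (x + y) = Fin.tail x + Fin.tail y from rfl]
      map_smul' := fun r x => by
        funext i
        refine Fin.cases (by simp) (fun j => ?_) i
        simp [show Fin.tail (r • x) = r • Fin.tail x from rfl]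
      invFun := fun x => Fin.cons (x 0) (B.symm (Fin.tail x))
      left_inv := fun x => by simp
      right_inv := fun x => by simp }
  map_one' := LinearEquiv.ext fun x => Fin.cons_self_tail x
  map_mul' B B' := LinearEquiv.ext fun x => by
    show (Fin.cons (x 0) (B (B' (Fin.tail x))) : Vec (n + 1)) = _
    simp [LinearEquiv.mul_eq_trans]

theorem emb_mem (B : Vec n ≃ₗ[F2] Vec n) : emb B ∈ stab n := by
  show (Fin.cons (e0 n 0) (B (Fin.tail (e0 n))) : Vec (n + 1)) = e0 n
  simp [e0]

theorem tail_emb (B : Vec n ≃ₗ[F2] Vec n) : tailHom n ⟨emb B, emb_mem B⟩ = B :=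
  LinearEquiv.ext fun w => by
    show Fin.tail (Fin.cons ((Fin.cons 0 w : Vec (n + 1)) 0) (B (Fin.tail (Fin.cons 0 w : Vec (n + 1)))) : Vec (n + 1)) = B w
    simp

/-- The kernel of the quotient action. -/
def trv (w : Vec n) : Vec (n + 1) ≃ₗ[F2] Vec (n + 1) :=
  LinearEquiv.ofInvolutive
    { toFun := fun x => Fin.cons (x 0 + dotProduct w (Fin.tail x)) (Fin.tail x)
      map_add' := fun x y => by
        funext i
        refine Fin.cases ?_ (fun j => ?_) i
        · simp [show Fin.tail (x + y) = Fin.tail x + Fin.tail y from rfl, dotProduct_add]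
          abel
        · simp [Fin.tail]
      map_smul' := fun r x => by
        funext i
        refine Fin.cases ?_ (fun j => ?_) i
        · simp [show Fin.tail (r • x) = r • Fin.tail x from rfl, dotProduct_smul, mul_add]
        · simp [Fin.tail] }
    fun x => by
      funext i
      refine Fin.cases ?_ (fun j => ?_) i
      · simp [add_assoc, CharTwo.add_self_eq_zero]
      · simp [Fin.tail]

theorem trv_apply (w : Vec n) (x : Vec (n + 1)) :
    trv w x = Fin.cons (x 0 + dotProduct w (Fin.tail x)) (Fin.tail x) := rfl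

theorem trv_mem (w : Vec n) : trv w ∈ stab n := by
  show trv w (e0 n) = e0 n
  simp [trv_apply, e0]

theorem trv_ker (w : Vec n) : tailHom n ⟨trv w, trv_mem w⟩ = 1 :=
  LinearEquiv.ext fun v => by
    show Fin.tail (trv w (Fin.cons 0 v)) = v
    simp [trv_apply]

theorem eq_trv {A : stab n} (h : tailHom n A = 1) : ∃ w, (A : Vec (n + 1) ≃ₗ[F2] Vec (n + 1)) = trv w := by
  refine ⟨fun j => A.1 (Fin.cons 0 (Pi.single j 1)) 0, LinearEquiv.ext fun x => ?_⟩
  have ht : ∀ w, Fin.tail (A.1 (Fin.cons 0 w)) = w := fun w => LinearEquiv.congr_fun h w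
  funext i
  refine Fin.cases ?_ (fun j => ?_) i
  · let f : Vec n →ₗ[F2] F2 :=
      { toFun := fun w => A.1 (Fin.cons 0 w) 0
        map_add' := fun v w => by
          rw [show (Fin.cons (0 : F2) (v + w) : Vec (n + 1)) = Fin.cons 0 v + Fin.cons 0 w by
            funext i; refine Fin.cases ?_ (fun j => ?_) i <;> simp, map_add, Pi.add_apply]
        map_smul' := fun r w => by
          rw [show (Fin.cons (0 : F2) (r • w) : Vec (n + 1)) = r • Fin.cons 0 w by
            funext i; refine Fin.cases ?_ (fun j => ?_) i <;> simp, map_smul, Pi.smul_apply, RingHom.id_apply] }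
    rw [trv_apply, Fin.cons_zero]
    conv_lhs => rw [← Fin.cons_self_tail x, cons_eq, map_add, map_smul, show A.1 (e0 n) = e0 n from A.2,
      Pi.add_apply, Pi.smul_apply, show e0 n 0 = 1 from rfl, smul_eq_mul, mul_one,
      show A.1 (Fin.cons 0 (Fin.tail x)) 0 = f (Fin.tail x) from rfl, pi_eq_sum_univ' (Fin.tail x), map_sum]
    congr 1
    refine Finset.sum_congr rfl fun j _ => ?_
    rw [map_smul, smul_eq_mul, mul_comm]
    rfl
  · rw [trv_apply, Fin.cons_succ]
    have := congrFun ((tail_stab A.2 x).trans (ht _)) j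
    exact this

theorem trv_injective : Function.Injective (trv : Vec n → _) := fun a b h => funext fun j => by
  have := congrFun (LinearEquiv.congr_fun h (Fin.cons 0 (Pi.single j 1))) 0
  simpa [trv_apply] using this

variable {ρ : G →* (Vec (n + 1) ≃ₗ[F2] Vec (n + 1))} {ι : Vec (n + 1) → G} {M : Subgroup G}

theorem Hol.ι_zero (h : Hol ρ ι M) : ι 0 = 1 := by
  have := h.ι_add 0 0
  rw [add_zero] at this
  exact mul_left_cancel (a := ι 0) (by rw [← this, mul_one])

theorem Hol.ρ_ι (h : Hol ρ ι M) (a : Vec (n + 1)) : ρ (ι a) = 1 := (h.ker _).2 ⟨a, rfl⟩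

theorem Hol.mem_centralizer (h : Hol ρ ι M) {g : G} :
    g ∈ Subgroup.centralizer ({ι (e0 n)} : Set G) ↔ ρ g ∈ stab n := by
  rw [Subgroup.mem_centralizer_singleton_iff, ← mul_inv_eq_iff_eq_mul, h.conj]
  exact ⟨fun e => h.ι_inj e, fun e => congrArg ι e⟩

/-- The restriction of `ρ` to the centraliser of the first vector, followed by the quotient action. -/
def Hol.act (h : Hol ρ ι M) : Subgroup.centralizer ({ι (e0 n)} : Set G) →* (Vec n ≃ₗ[F2] Vec n) :=
  (tailHom n).comp ((ρ.comp (Subgroup.centralizer ({ι (e0 n)} : Set G)).subtype).codRestrict (stab n)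
    fun g => h.mem_centralizer.1 g.2)

theorem Hol.zpowers_eq (h : Hol ρ ι M) (g : G) :
    g ∈ Subgroup.zpowers (ι (e0 n)) ↔ ∃ c : F2, g = ι (c • e0 n) := by
  constructor
  · rintro ⟨k, rfl⟩
    refine ⟨(k : F2), ?_⟩
    induction k using Int.induction_on with
    | zero => simp [h.ι_zero]
    | succ k ih =>
      show ι (e0 n) ^ ((k : ℤ) + 1) = _
      change ι (e0 n) ^ (k : ℤ) = _ at ih
      rw [zpow_add_one, ih, ← h.ι_add, Int.cast_add, Int.cast_one, add_smul, one_smul]
    | pred k ih =>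
      show ι (e0 n) ^ (-(k : ℤ) - 1) = _
      change ι (e0 n) ^ (-(k : ℤ)) = _ at ih
      rw [zpow_sub_one, ih, mul_inv_eq_iff_eq_mul, ← h.ι_add, Int.cast_sub, Int.cast_one, sub_smul, one_smul,
        sub_add_cancel]
  · rintro ⟨c, rfl⟩
    rcases (by decide : ∀ x : F2, x = 0 ∨ x = 1) c with rfl | rfl
    · rw [zero_smul, h.ι_zero]; exact one_mem _
    · rw [one_smul]; exact Subgroup.mem_zpowers _

set_option maxHeartbeats 1000000 in
/-- The main structure theorem. -/
theorem Hol.main (h : Hol ρ ι M) (hn : 1 ≤ n) (Q : Subgroup G)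
    (hQ : Q = (Cfsg.pCore 2 ↥(Subgroup.centralizer ({ι (e0 n)} : Set G))).map
      (Subgroup.centralizer ({ι (e0 n)} : Set G)).subtype) :
    Cfsg.IsExtraspecial 2 ↥Q ∧ Nat.card ↥Q = 2 ^ (2 * n + 1) ∧ Set.range ι ⊆ Q ∧
      (Subgroup.center ↥Q).map Q.subtype = Subgroup.zpowers (ι (e0 n)) ∧
      Subgroup.centralizer (Q : Set G) = Subgroup.zpowers (ι (e0 n)) ∧
      Subgroup.centralizer ({ι (e0 n)} : Set G) ≤ Subgroup.normalizer (Q : Set G) ∧
      ∃ K : Subgroup G, K ≤ Subgroup.centralizer ({ι (e0 n)} : Set G) ∧ Q ⊓ K = ⊥ ∧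
        Q ⊔ K = Subgroup.centralizer ({ι (e0 n)} : Set G) ∧
        Nonempty (↥K ≃* Matrix.GeneralLinearGroup (Fin n) F2) := by
  classical
  haveI : Fact (Nat.Prime 2) := ⟨Nat.prime_two⟩
  set C := Subgroup.centralizer ({ι (e0 n)} : Set G) with hC
  have hactv : ∀ (g : C), h.act g = tailHom n ⟨ρ g, h.mem_centralizer.1 g.2⟩ := fun _ => rfl
  have hUC : ∀ a, ι a ∈ C := fun a => h.mem_centralizer.2 (by rw [h.ρ_ι]; exact one_mem _)
  choose t htM htρ using fun w : Vec n => h.surj (trv w)
  have htC : ∀ w, t w ∈ C := fun w => h.mem_centralizer.2 (by rw [htρ]; exact trv_mem w)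
  -- the kernel of the action
  let f : Vec (n + 1) × Vec n → h.act.ker := fun x => ⟨⟨ι x.1 * t x.2, mul_mem (hUC _) (htC _)⟩, by
    rw [MonoidHom.mem_ker, hactv]
    rw [show (⟨ρ (ι x.1 * t x.2), h.mem_centralizer.1 (mul_mem (hUC _) (htC _))⟩ : stab n) =
      ⟨trv x.2, trv_mem x.2⟩ from Subtype.ext (by show ρ (ι x.1 * t x.2) = trv x.2; rw [map_mul, h.ρ_ι, one_mul, htρ])]
    exact trv_ker x.2⟩
  have hf : Function.Bijective f := by
    refine ⟨fun x y e => ?_, fun g => ?_⟩
    · have e' : ι x.1 * t x.2 = ι y.1 * t y.2 := congrArg (fun q : h.act.ker => ((q : C) : G)) e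
      have h2 : x.2 = y.2 := trv_injective (by
        have := congrArg ρ e'
        rwa [map_mul, map_mul, h.ρ_ι, h.ρ_ι, one_mul, one_mul, htρ, htρ] at this)
      rw [h2] at e'
      exact Prod.ext (h.ι_inj (mul_right_cancel e')) h2
    · obtain ⟨w, hw⟩ := eq_trv (MonoidHom.mem_ker.1 g.2)
      change ρ ((g : C) : G) = trv w at hw
      obtain ⟨a, ha⟩ := (h.ker (((g : C) : G) * (t w)⁻¹)).1 (by rw [map_mul, map_inv, hw, htρ, mul_inv_cancel])
      exact ⟨(a, w), Subtype.ext (Subtype.ext (show ι a * t w = _ by rw [ha, inv_mul_cancel_right]))⟩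
  have hkcard : Nat.card h.act.ker = 2 ^ (2 * n + 1) := by
    rw [← Nat.card_eq_of_bijective f hf, Nat.card_prod, Nat.card_fun, Nat.card_fun, Nat.card_zmod, Nat.card_fin,
      Nat.card_fin, ← pow_add]
    ring_nf
  have hkp : IsPGroup 2 h.act.ker := IsPGroup.of_card hkcard
  choose s hsM hsρ using fun B : Vec n ≃ₗ[F2] Vec n => h.surj (emb B)
  have hsC : ∀ B, s B ∈ C := fun B => h.mem_centralizer.2 (by rw [hsρ]; exact emb_mem B)
  have hsurj : Function.Surjective h.act := fun B => ⟨⟨s B, hsC B⟩, by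
    rw [hactv, show (⟨ρ (s B), h.mem_centralizer.1 (hsC B)⟩ : stab n) = ⟨emb B, emb_mem B⟩ from
      Subtype.ext (hsρ B)]
    exact tail_emb B⟩
  have hcore : Cfsg.pCore 2 C = h.act.ker := by
    refine le_antisymm ?_ (le_sSup ⟨inferInstance, hkp⟩)
    haveI := LargeExtra.Basic.pCore_normal' C
    have h0 := eq_bot_of_normal hn ((Cfsg.pCore 2 C).map h.act) (Subgroup.Normal.map inferInstance _ hsurj)
      ((LargeExtra.Basic.pCore_isPGroup C).map _)
    exact (Subgroup.map_eq_bot_iff _).1 h0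
  rw [hcore] at hQ
  have hmem : ∀ g, g ∈ Q ↔ ∃ a w, g = ι a * t w := fun g => by
    rw [hQ]
    constructor
    · rintro ⟨g, hg, rfl⟩
      obtain ⟨⟨a, w⟩, e⟩ := hf.2 ⟨g, hg⟩
      exact ⟨a, w, (congrArg (fun q : h.act.ker => ((q : C) : G)) e).symm⟩
    · rintro ⟨a, w, rfl⟩
      exact ⟨(f (a, w) : C), (f (a, w)).2, rfl⟩
  have hQcard : Nat.card Q = 2 ^ (2 * n + 1) := by
    rw [hQ, Subgroup.card_map_of_injective C.subtype_injective, hkcard]
  have hQp : IsPGroup 2 Q := IsPGroup.of_card hQcard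
  have hιQ : Set.range ι ⊆ Q := by
    rintro _ ⟨a, rfl⟩
    refine (hmem _).2 ⟨a, 0, ?_⟩
    have : t 0 = 1 := h.inj _ (htM 0) (by
      rw [htρ]; exact LinearEquiv.ext fun x => by simp [trv_apply])
    rw [this, mul_one]
  have htQ : ∀ w, t w ∈ Q := fun w => (hmem _).2 ⟨0, w, by rw [h.ι_zero, one_mul]⟩
  have hQC : Q ≤ C := by rw [hQ]; exact Subgroup.map_subtype_le _
  -- centraliser
  have hcentQ : Subgroup.centralizer (Q : Set G) = Subgroup.zpowers (ι (e0 n)) := by
    refine le_antisymm (fun g hg => ?_) (Subgroup.zpowers_le.2 (Subgroup.mem_centralizer_iff.2 fun q hq =>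
      (Subgroup.mem_centralizer_singleton_iff.1 (hQC hq))))
    have hρ : ρ g = 1 := LinearEquiv.ext fun a => h.ι_inj (by
      rw [← h.conj]
      exact mul_inv_eq_iff_eq_mul.2 (Subgroup.mem_centralizer_iff.1 hg _ (hιQ ⟨a, rfl⟩)).symm)
    obtain ⟨a, rfl⟩ := (h.ker g).1 hρ
    refine (h.zpowers_eq _).2 ⟨a 0, congrArg ι ?_⟩
    have hfix : ∀ w, trv w a = a := fun w => h.ι_inj (by
      rw [← htρ, ← h.conj]
      exact mul_inv_eq_iff_eq_mul.2 (Subgroup.mem_centralizer_iff.1 hg _ (htQ w)))
    funext i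
    refine Fin.cases (by simp [e0]) (fun j => ?_) i
    have := congrFun (hfix (Pi.single j 1)) 0
    simp [trv_apply, Fin.tail] at this
    simp [e0, this]
  have hcenter : (Subgroup.center ↥Q).map Q.subtype = Subgroup.zpowers (ι (e0 n)) := by
    refine le_antisymm (fun g hg => ?_) (fun g hg => ?_)
    · rw [← hcentQ]
      exact Subgroup.mem_centralizer_iff.2 fun q hq => (LargeExtra.Basic.mem_centerMap.1 hg).2 q hq
    · refine LargeExtra.Basic.mem_centerMap.2 ⟨Subgroup.zpowers_le.2 (hιQ ⟨_, rfl⟩) hg, fun q hq => ?_⟩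
      exact Subgroup.mem_centralizer_iff.1 (hcentQ.symm ▸ hg : g ∈ Subgroup.centralizer (Q : Set G)) q hq
  have hzord : orderOf (ι (e0 n)) = 2 := by
    refine orderOf_eq_prime ?_ fun e => e0_ne n (h.ι_inj (e.trans h.ι_zero.symm))
    rw [pow_two, ← h.ι_add, show e0 n + e0 n = 0 from funext fun i => CharTwo.add_self_eq_zero _, h.ι_zero]
  have hccard : Nat.card (Subgroup.center ↥Q) = 2 := by
    rw [← Subgroup.card_map_of_injective Q.subtype_injective, hcenter, Nat.card_zpowers, hzord]
  -- squares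
  have hsq : ∀ x : Q, x ^ 2 ∈ Subgroup.center Q := fun x => by
    obtain ⟨a, w, hx⟩ := (hmem _).1 x.2
    have ht2 : t w * t w = 1 := h.inj _ (mul_mem (htM w) (htM w)) (by
      rw [map_mul, htρ]; exact LinearEquiv.ext fun v => by
        show trv w (trv w v) = v
        simp [trv_apply, add_assoc, CharTwo.add_self_eq_zero])
    have hx2 : ((x ^ 2 : Q) : G) ∈ Subgroup.zpowers (ι (e0 n)) := by
      refine (h.zpowers_eq _).2 ⟨dotProduct w (Fin.tail a), ?_⟩
      rw [SubgroupClass.coe_pow, hx, pow_two,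
        show ι a * t w * (ι a * t w) = ι a * (t w * ι a * (t w)⁻¹) * (t w * t w) by group, ht2, mul_one,
        h.conj, htρ, ← h.ι_add]
      congr 1
      funext i
      refine Fin.cases ?_ (fun j => ?_) i
      · simp [trv_apply, e0, ← add_assoc, CharTwo.add_self_eq_zero]
      · simp [trv_apply, e0, Fin.tail, CharTwo.add_self_eq_zero]
    rw [← hcenter] at hx2
    obtain ⟨y, hy, hyx⟩ := hx2
    exact Subtype.ext hyx ▸ hy
  have hcomm : commutator Q ≤ Subgroup.center Q := by
    refine (Subgroup.Normal.quotient_commutative_iff_commutator_le).1 ⟨⟨fun p q => ?_⟩⟩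
    have hinv : ∀ r : Q ⧸ Subgroup.center Q, r * r = 1 := fun r => by
      induction r using QuotientGroup.induction_on with | H x => ?_
      rw [← QuotientGroup.mk_mul, QuotientGroup.eq_one_iff, ← pow_two]
      exact hsq x
    have hi : ∀ r : Q ⧸ Subgroup.center Q, r⁻¹ = r := fun r => inv_eq_of_mul_eq_one_right (hinv r)
    calc p * q = (p * q)⁻¹ := (hi _).symm
      _ = q⁻¹ * p⁻¹ := mul_inv_rev p q
      _ = q * p := by rw [hi, hi]
  have hne : commutator Q ≠ ⊥ := fun hb => by
    have htop : Subgroup.center Q = ⊤ := eq_top_iff.2 fun x _ => Subgroup.mem_center_iff.2 fun y =>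
      commutatorElement_eq_one_iff_mul_comm.1 ((Subgroup.eq_bot_iff_forall _).1 hb _
        (Subgroup.commutator_mem_commutator (Subgroup.mem_top y) (Subgroup.mem_top x)))
    rw [htop, Subgroup.card_top, hQcard] at hccard
    have := Nat.pow_le_pow_right (n := 2) (by norm_num) (show 3 ≤ 2 * n + 1 by omega)
    omega
  have hceq : commutator Q = Subgroup.center Q := Subgroup.eq_of_le_of_card_ge hcomm (by
    rw [hccard]
    exact (Subgroup.one_lt_card_iff_ne_bot _).2 hne)
  have hfr : frattini Q = Subgroup.center Q := le_antisymm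
    (PGroups.frattini_le_of_pow_commutator (p := 2) _ hsq hcomm)
    (hceq ▸ PGroups.commutator_le_frattini hQp)
  -- the complement
  have eqM : ∀ x ∈ M, ∀ y ∈ M, ρ x = ρ y → x = y := fun x hx y hy e =>
    mul_inv_eq_one.1 (h.inj _ (mul_mem hx (inv_mem hy)) (by rw [map_mul, map_inv, e, mul_inv_cancel]))
  let ψ : (Vec n ≃ₗ[F2] Vec n) →* G := MonoidHom.mk' s fun A B =>
    eqM _ (hsM _) _ (mul_mem (hsM A) (hsM B)) (by rw [map_mul, hsρ, hsρ, hsρ, map_mul])
  have hψ : ∀ B, h.act ⟨s B, hsC B⟩ = B := fun B => by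
    rw [hactv, show (⟨ρ (s B), h.mem_centralizer.1 (hsC B)⟩ : stab n) = ⟨emb B, emb_mem B⟩ from
      Subtype.ext (hsρ B)]
    exact tail_emb B
  have hψinj : Function.Injective ψ := fun A B e => by
    rw [← hψ A, ← hψ B]
    exact congrArg h.act (Subtype.ext e)
  refine ⟨⟨⟨hQp, hfr, hceq⟩, hccard⟩, hQcard, hιQ, hcenter, hcentQ, fun g hg => ?_, ψ.range, ?_, ?_, ?_,
    ⟨(MonoidHom.ofInjective hψinj).symm.trans (linGL n)⟩⟩
  · refine Subgroup.mem_normalizer_fintype fun x hx => ?_
    rw [SetLike.mem_coe, hQ] at hx ⊢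
    obtain ⟨y, hy, rfl⟩ := hx
    have key := (MonoidHom.normal_ker h.act).conj_mem y hy ⟨g, hg⟩
    exact ⟨_, key, rfl⟩
  · rintro _ ⟨B, rfl⟩
    exact hsC B
  · rw [eq_bot_iff]
    rintro x ⟨hxQ, B, rfl⟩
    rw [hQ] at hxQ
    obtain ⟨y, hy, hyx⟩ := hxQ
    have : B = 1 := by
      rw [← hψ B, show (⟨s B, hsC B⟩ : C) = y from Subtype.ext hyx.symm]
      exact hy
    rw [this, map_one]
    exact one_mem _
  · refine le_antisymm (sup_le hQC (by rintro _ ⟨B, rfl⟩; exact hsC B)) fun g hg => ?_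
    have : g * (s (h.act ⟨g, hg⟩))⁻¹ ∈ Q := by
      rw [hQ]
      exact ⟨⟨g, hg⟩ * (⟨s (h.act ⟨g, hg⟩), hsC _⟩ : C)⁻¹, by
        rw [SetLike.mem_coe, MonoidHom.mem_ker, map_mul, map_inv, hψ, mul_inv_cancel], rfl⟩
    have h2 := mul_mem (Subgroup.mem_sup_left (T := ψ.range) this)
      (Subgroup.mem_sup_right (S := Q) (⟨_, rfl⟩ : s (h.act ⟨g, hg⟩) ∈ ψ.range))
    rwa [inv_mul_cancel_right] at h2

end Cfsg.Agent.Lib.Holomorph83
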