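import Cfsg.Agent.Lib.Holomorph83.Core
import Cfsg.Agent.Lib.Cores.Basic
import Cfsg.Agent.Lib.Coprime.Generation
import Cfsg.Agent.Lib.FusionP3.GenExtra.Iso
import Mathlib

/-!
# The holomorph as the hyperplane stabiliser in `SL_{n+2}(2)`

Owner: helper83.
-/

set_option autoImplicit false
set_option linter.style.haveILetI false
set_option linter.unusedSectionVars false

open Matrix

namespace Cfsg.Agent.Lib.Holomorph83

variable {n : ℕ}

theorem f2cases : ∀ c : F2, c = 0 ∨ c = 1 := by decide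

theorem det_eq_one {m : ℕ} (g : GL (Fin m) F2) : (g : Matrix (Fin m) (Fin m) F2).det = 1 :=
  (by decide : ∀ c : F2, c ≠ 0 → c = 1) _ ((Matrix.GeneralLinearGroup.det g).ne_zero)

/-- Over `F₂` the special and general linear groups agree. -/
def glSL (m : ℕ) : GL (Fin m) F2 ≃* Matrix.SpecialLinearGroup (Fin m) F2 where
  toFun g := ⟨g, det_eq_one g⟩
  invFun g := Matrix.SpecialLinearGroup.toGL g
  left_inv g := Units.ext rfl
  right_inv g := Subtype.ext rfl
  map_mul' g h := Subtype.ext rfl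

abbrev SLG (n : ℕ) := Matrix.SpecialLinearGroup (Fin (n + 2)) F2
abbrev Big (n : ℕ) := Fin (n + 2) → F2

theorem sl_ext {g h : SLG n} (e : ∀ x : Big n, (g : Matrix (Fin (n + 2)) (Fin (n + 2)) F2) *ᵥ x =
    (h : Matrix (Fin (n + 2)) (Fin (n + 2)) F2) *ᵥ x) : g = h :=
  Subtype.ext (Matrix.ext_iff_mulVec.2 e)

/-- The element of `SL` of a linear automorphism. -/
noncomputable def mkSL (L : Big n ≃ₗ[F2] Big n) : SLG n :=
  glSL _ ((Matrix.GeneralLinearGroup.toLin).symm
    ((LinearMap.GeneralLinearGroup.generalLinearEquiv F2 (Big n)).symm L))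

theorem mkSL_mulVec (L : Big n ≃ₗ[F2] Big n) (x : Big n) :
    (mkSL L : Matrix (Fin (n + 2)) (Fin (n + 2)) F2) *ᵥ x = L x := by
  show LinearMap.toMatrix' (L : Big n →ₗ[F2] Big n) *ᵥ x = L x
  rw [LinearMap.toMatrix'_mulVec]
  rfl

theorem mul_mulVec (g h : SLG n) (x : Big n) :
    ((g * h : SLG n) : Matrix (Fin (n + 2)) (Fin (n + 2)) F2) *ᵥ x =
      (g : Matrix (Fin (n + 2)) (Fin (n + 2)) F2) *ᵥ ((h : Matrix (Fin (n + 2)) (Fin (n + 2)) F2) *ᵥ x) := by
  rw [Matrix.SpecialLinearGroup.coe_mul, Matrix.mulVec_mulVec]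

theorem one_mulVec' (x : Big n) : ((1 : SLG n) : Matrix (Fin (n + 2)) (Fin (n + 2)) F2) *ᵥ x = x := by
  rw [Matrix.SpecialLinearGroup.coe_one, Matrix.one_mulVec]

theorem inv_mulVec (g : SLG n) (x : Big n) :
    (g : Matrix (Fin (n + 2)) (Fin (n + 2)) F2) *ᵥ
      (((g⁻¹ : SLG n) : Matrix (Fin (n + 2)) (Fin (n + 2)) F2) *ᵥ x) = x := by
  rw [← mul_mulVec, mul_inv_cancel, one_mulVec']

theorem inv_mulVec' (g : SLG n) (x : Big n) :
    ((g⁻¹ : SLG n) : Matrix (Fin (n + 2)) (Fin (n + 2)) F2) *ᵥ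
      ((g : Matrix (Fin (n + 2)) (Fin (n + 2)) F2) *ᵥ x) = x := by
  rw [← mul_mulVec, inv_mul_cancel, one_mulVec']

/-- The elements preserving the coordinate `1`. -/
def para (n : ℕ) : Subgroup (SLG n) where
  carrier := {g | ∀ x : Big n, ((g : Matrix (Fin (n + 2)) (Fin (n + 2)) F2) *ᵥ x) 1 = x 1}
  one_mem' x := by rw [one_mulVec']
  mul_mem' {a b} ha hb x := by rw [mul_mulVec, ha, hb]
  inv_mem' {a} ha x := by
    have := ha (((a⁻¹ : SLG n) : Matrix (Fin (n + 2)) (Fin (n + 2)) F2) *ᵥ x)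
    rw [inv_mulVec] at this
    exact this.symm

/-- The hyperplane. -/
def inc : Vec (n + 1) →ₗ[F2] Big n where
  toFun v := Fin.insertNth (α := fun _ => F2) 1 0 v
  map_add' v w := by
    funext i
    refine Fin.succAboveCases 1 ?_ (fun j => ?_) i <;> simp
  map_smul' r v := by
    funext i
    refine Fin.succAboveCases 1 ?_ (fun j => ?_) i <;> simp

/-- The projection to the hyperplane. -/
def res : Big n →ₗ[F2] Vec (n + 1) where
  toFun x j := x ((1 : Fin (n + 2)).succAbove j)
  map_add' _ _ := rfl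
  map_smul' _ _ := rfl

theorem inc_one (v : Vec (n + 1)) : inc v 1 = 0 := Fin.insertNth_apply_same (α := fun _ => F2) 1 0 v

theorem res_inc (v : Vec (n + 1)) : res (inc v) = v :=
  funext fun j => Fin.insertNth_apply_succAbove (α := fun _ => F2) 1 0 v j

theorem inc_res {x : Big n} (hx : x 1 = 0) : inc (res x) = x := by
  funext i
  refine Fin.succAboveCases 1 ?_ (fun j => ?_) i
  · rw [hx]; exact inc_one _
  · exact congrFun (res_inc (res x)) j

/-- The vector outside the hyperplane. -/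
def one1 (n : ℕ) : Big n := Pi.single 1 1

theorem decomp (x : Big n) : x = inc (res x) + x 1 • one1 n := by
  funext i
  refine Fin.succAboveCases 1 ?_ (fun j => ?_) i
  · simp [inc_one, one1]
  · have := congrFun (res_inc (res x)) j
    simp only [Pi.add_apply, Pi.smul_apply]
    rw [show (inc (res x)) ((1 : Fin (n + 2)).succAbove j) = x ((1 : Fin (n + 2)).succAbove j) from this]
    simp [one1, Fin.succAbove_ne]

/-- The translations. -/
noncomputable def shear (v : Vec (n + 1)) : para n :=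
  ⟨mkSL (LinearEquiv.ofInvolutive
    { toFun := fun x => x + x 1 • inc v
      map_add' := fun x y => by rw [Pi.add_apply, add_smul]; abel
      map_smul' := fun r x => by
        rw [Pi.smul_apply, smul_eq_mul, RingHom.id_apply, smul_add, smul_smul] }
    fun x => by
      show x + x 1 • inc v + (x + x 1 • inc v) 1 • inc v = x
      rw [Pi.add_apply, Pi.smul_apply, inc_one, smul_zero, add_zero, add_assoc, ← two_smul F2 (x 1 • inc v),
        show (2 : F2) = 0 from rfl, zero_smul, add_zero]), fun x => by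
    rw [mkSL_mulVec]
    show (x + x 1 • inc v) 1 = x 1
    rw [Pi.add_apply, Pi.smul_apply, inc_one, smul_zero, add_zero]⟩

theorem shear_mulVec (v : Vec (n + 1)) (x : Big n) :
    ((shear v : SLG n) : Matrix (Fin (n + 2)) (Fin (n + 2)) F2) *ᵥ x = x + x 1 • inc v :=
  mkSL_mulVec _ x

/-- The action on the hyperplane. -/
noncomputable def act : para n →* (Vec (n + 1) ≃ₗ[F2] Vec (n + 1)) where
  toFun g :=
    { res.comp ((Matrix.mulVecLin ((g : SLG n) : Matrix (Fin (n + 2)) (Fin (n + 2)) F2)).comp inc) with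
      invFun := fun v => res ((((g : SLG n)⁻¹ : SLG n) : Matrix (Fin (n + 2)) (Fin (n + 2)) F2) *ᵥ inc v)
      left_inv := fun v => by
        show res (_ *ᵥ inc (res (_ *ᵥ inc v))) = v
        rw [inc_res ((g.2 (inc v)).trans (inc_one v)), inv_mulVec', res_inc]
      right_inv := fun v => by
        show res (_ *ᵥ inc (res (_ *ᵥ inc v))) = v
        rw [inc_res (((para n).inv_mem g.2 (inc v)).trans (inc_one v)), inv_mulVec, res_inc] }
  map_one' := LinearEquiv.ext fun v => by
    show res (_ *ᵥ inc v) = v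
    rw [Subgroup.coe_one, one_mulVec', res_inc]
  map_mul' g h := LinearEquiv.ext fun v => by
    show res (_ *ᵥ inc v) = res (_ *ᵥ inc (res (_ *ᵥ inc v)))
    rw [inc_res ((h.2 (inc v)).trans (inc_one v)), Subgroup.coe_mul, mul_mulVec]

theorem act_inc (g : para n) (v : Vec (n + 1)) :
    inc (act g v) = ((g : SLG n) : Matrix (Fin (n + 2)) (Fin (n + 2)) F2) *ᵥ inc v :=
  inc_res ((g.2 (inc v)).trans (inc_one v))

/-- The linear complement. -/
def levi (n : ℕ) : Subgroup (para n) where
  carrier := {g | ((g : SLG n) : Matrix (Fin (n + 2)) (Fin (n + 2)) F2) *ᵥ one1 n = one1 n}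
  one_mem' := by show _ *ᵥ _ = _; rw [Subgroup.coe_one, one_mulVec']
  mul_mem' {a b} (ha : _ = _) (hb : _ = _) := by
    show _ *ᵥ _ = _
    rw [Subgroup.coe_mul, mul_mulVec, hb, ha]
  inv_mem' {a} (ha : _ = _) := by
    show _ *ᵥ _ = _
    conv_lhs => rw [← ha]
    exact inv_mulVec' _ _

theorem hol (n : ℕ) : Hol (act (n := n)) shear (levi n) where
  ι_add a b := Subtype.ext (sl_ext fun x => by
    rw [Subgroup.coe_mul, mul_mulVec, shear_mulVec, shear_mulVec, shear_mulVec, Pi.add_apply, Pi.smul_apply,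
      inc_one, smul_zero, add_zero, map_add, smul_add]
    abel)
  ι_inj a b e := by
    have := congrArg (fun g : para n => res (((g : SLG n) : Matrix (Fin (n + 2)) (Fin (n + 2)) F2) *ᵥ one1 n)) e
    simp only [shear_mulVec] at this
    simpa [one1, res_inc] using this
  ker g := by
    constructor
    · intro h
      refine ⟨res (((g : SLG n) : Matrix (Fin (n + 2)) (Fin (n + 2)) F2) *ᵥ one1 n - one1 n),
        Subtype.ext (sl_ext fun x => ?_)⟩
      rw [shear_mulVec, inc_res (by rw [Pi.sub_apply, g.2, sub_self])]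
      conv_rhs => rw [decomp x, Matrix.mulVec_add, Matrix.mulVec_smul, ← act_inc, h]
      rw [show ((1 : Vec (n + 1) ≃ₗ[F2] Vec (n + 1)) (res x)) = res x from rfl, smul_sub]
      nth_rewrite 1 [decomp x]
      abel
    · rintro ⟨v, rfl⟩
      refine LinearEquiv.ext fun w => ?_
      show res (_ *ᵥ inc w) = w
      rw [shear_mulVec, inc_one, zero_smul, add_zero, res_inc]
  conj g a := Subtype.ext (sl_ext fun x => by
    rw [Subgroup.coe_mul, Subgroup.coe_mul, mul_mulVec, mul_mulVec, shear_mulVec, shear_mulVec, act_inc,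
      Subgroup.coe_inv, Matrix.mulVec_add, Matrix.mulVec_smul, inv_mulVec,
      ← Subgroup.coe_inv, (g⁻¹).2])
  surj A := by
    have hL : ∀ (A : Vec (n + 1) ≃ₗ[F2] Vec (n + 1)) (x : Big n),
        inc (A.symm (res (inc (A (res x)) + x 1 • one1 n))) + (inc (A (res x)) + x 1 • one1 n : Big n) 1 • one1 n = x := by
      intro A x
      have h1 : (inc (A (res x)) + x 1 • one1 n : Big n) 1 = x 1 := by simp [inc_one, one1]
      have h2 : res (inc (A (res x)) + x 1 • one1 n) = A (res x) := by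
        rw [map_add, map_smul, res_inc,
          show res (one1 n) = 0 from funext fun j => by simp [res, one1, Fin.succAbove_ne], smul_zero, add_zero]
      rw [h1, h2, LinearEquiv.symm_apply_apply]
      exact (decomp x).symm
    let L : Big n ≃ₗ[F2] Big n :=
      { toFun := fun x => inc (A (res x)) + x 1 • one1 n
        map_add' := fun x y => by
          rw [map_add, map_add, map_add, Pi.add_apply, add_smul]; abel
        map_smul' := fun r x => by
          rw [map_smul, map_smul, map_smul, Pi.smul_apply, RingHom.id_apply, smul_add, smul_eq_mul, smul_smul]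
        invFun := fun x => inc (A.symm (res x)) + x 1 • one1 n
        left_inv := hL A
        right_inv := hL A.symm }
    have h1 : ∀ x, L x 1 = x 1 := fun x => by simp [L, inc_one, one1]
    refine ⟨⟨mkSL L, fun x => by rw [mkSL_mulVec, h1]⟩, ?_, LinearEquiv.ext fun v => ?_⟩
    · show _ *ᵥ one1 n = _
      rw [mkSL_mulVec]
      show inc (A (res (one1 n))) + one1 n 1 • one1 n = one1 n
      rw [show res (one1 n) = 0 from funext fun j => by simp [res, one1, Fin.succAbove_ne], map_zero, map_zero]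
      simp [one1]
    · show res (_ *ᵥ inc v) = A v
      rw [mkSL_mulVec]
      show res (inc (A (res (inc v))) + inc v 1 • one1 n) = A v
      rw [inc_one, zero_smul, add_zero, res_inc, res_inc]
  inj g (hg : _ = _) h := Subtype.ext (sl_ext fun x => by
    rw [Subgroup.coe_one, one_mulVec']
    conv_lhs => rw [decomp x, Matrix.mulVec_add, Matrix.mulVec_smul, ← act_inc, h, hg]
    exact (decomp x).symm)

theorem result_core (hn : 2 ≤ n) {z : SLG n}
    (hz : (z : Matrix (Fin (n + 2)) (Fin (n + 2)) F2) = Matrix.transvection 0 1 1) (Q : Subgroup (SLG n))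
    (hQ : Q = (Cfsg.pCore 2 ↥(Subgroup.centralizer ({z} : Set (SLG n)))).map
      (Subgroup.centralizer ({z} : Set (SLG n))).subtype) :
    Cfsg.IsExtraspecial 2 ↥Q ∧ Nat.card ↥Q = 2 ^ (2 * n + 1) ∧
      (∃ E : Subgroup (SLG n), E ≤ Q ∧ Cfsg.IsElementaryAbelian 2 E ∧ Nat.card ↥E = 2 ^ (n + 1)) ∧
      Cfsg.IsLargeExtraspecial Q ∧ ∃ K : Subgroup (SLG n), K ≤ Subgroup.centralizer ({z} : Set (SLG n)) ∧
        Q ⊓ K = ⊥ ∧ Q ⊔ K = Subgroup.centralizer ({z} : Set (SLG n)) ∧
        Nonempty (↥K ≃* Matrix.SpecialLinearGroup (Fin n) F2) := by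
  haveI : Fact (Nat.Prime 2) := ⟨Nat.prime_two⟩
  set z₀ : para n := shear (e0 n) with hz₀
  have hince : inc (e0 n) = (Pi.single 0 1 : Big n) := by
    funext i
    refine Fin.succAboveCases 1 ?_ (fun j => ?_) i
    · rw [inc_one]; simp
    · refine (congrFun (res_inc (e0 n)) j).trans ?_
      refine Fin.cases ?_ (fun k => ?_) j
      · simp [e0]
      · rw [show (1 : Fin (n + 2)).succAbove k.succ = k.succ.succ by
          exact Fin.succ_succAbove_succ 0 k]
        simp [e0, Fin.succ_ne_zero]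
  have hzv : ∀ x, (z : Matrix (Fin (n + 2)) (Fin (n + 2)) F2) *ᵥ x = x + x 1 • Pi.single 0 1 := fun x => by
    rw [hz, Matrix.transvection, Matrix.add_mulVec, Matrix.one_mulVec, Matrix.single_mulVec]
    congr 1
    funext i
    rcases eq_or_ne i 0 with rfl | h <;> simp [*]
  have hzz : ((z₀ : para n) : SLG n) = z := sl_ext fun x => by rw [hz₀, shear_mulVec, hince, hzv]
  have hCP : Subgroup.centralizer ({z} : Set (SLG n)) ≤ para n := by
    intro g hg
    have key : ∀ x : Big n, x 1 • ((g : Matrix (Fin (n + 2)) (Fin (n + 2)) F2) *ᵥ Pi.single 0 1) =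
        ((g : Matrix (Fin (n + 2)) (Fin (n + 2)) F2) *ᵥ x) 1 • (Pi.single 0 1 : Big n) := fun x => by
      have := congrArg (fun a : SLG n => (a : Matrix (Fin (n + 2)) (Fin (n + 2)) F2) *ᵥ x)
        (Subgroup.mem_centralizer_singleton_iff.1 hg)
      simp only [mul_mulVec, hzv, Matrix.mulVec_add, Matrix.mulVec_smul] at this
      exact add_left_cancel this
    have h0 := key (one1 n)
    rw [show one1 n 1 = 1 by simp [one1], one_smul] at h0
    have hne : (g : Matrix (Fin (n + 2)) (Fin (n + 2)) F2) *ᵥ Pi.single 0 1 ≠ 0 := fun e => by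
      have := congrArg (((g⁻¹ : SLG n) : Matrix (Fin (n + 2)) (Fin (n + 2)) F2) *ᵥ ·) e
      simp only [inv_mulVec', Matrix.mulVec_zero] at this
      simpa using congrFun this 0
    rcases f2cases (((g : Matrix (Fin (n + 2)) (Fin (n + 2)) F2) *ᵥ one1 n) 1)
      with hc | hc <;> rw [hc] at h0
    · rw [zero_smul] at h0; exact absurd h0 hne
    · intro x
      have := congrFun (key x) 0
      rw [h0, one_smul] at this
      simpa using this.symm
  set C := Subgroup.centralizer ({z} : Set (SLG n)) with hC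
  set C' := Subgroup.centralizer ({z₀} : Set (para n)) with hC'
  have hCmap : C'.map (para n).subtype = C := by
    ext g
    constructor
    · rintro ⟨g, hg, rfl⟩
      exact Subgroup.mem_centralizer_singleton_iff.2 (by
        rw [← hzz]; exact congrArg Subtype.val (Subgroup.mem_centralizer_singleton_iff.1 hg))
    · intro hg
      exact ⟨⟨g, hCP hg⟩, Subgroup.mem_centralizer_singleton_iff.2 (Subtype.ext (by
        show g * (z₀ : SLG n) = (z₀ : SLG n) * g
        rw [hzz]; exact Subgroup.mem_centralizer_singleton_iff.1 hg)), rfl⟩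
  obtain ⟨hex, hcard, hιQ, hcen, hcentQ, hnorm, K, hKC, hQK, hQK', ⟨eK⟩⟩ :=
    (hol n).main (by omega) _ rfl
  rw [← hz₀, ← hC'] at *
  set Q' := (Cfsg.pCore 2 C').map C'.subtype with hQ'
  let φ := Q'.equivMapOfInjective (para n).subtype (para n).subtype_injective
  have hQQ : Q = Q'.map (para n).subtype := by
    let e : C' ≃* C := (C'.equivMapOfInjective _ (para n).subtype_injective).trans (MulEquiv.subgroupCongr hCmap)
    rw [hQ, hQ', ← Cfsg.Agent.Lib.Cores.map_pCore_equiv (p := 2) e, Subgroup.map_map, Subgroup.map_map]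
    rfl
  have hexQ : Cfsg.IsExtraspecial 2 ↥(Q'.map (para n).subtype) := FusionP3.GenExtra.isExtraspecial_congr φ hex
  let U : Subgroup (para n) :=
    { carrier := Set.range (shear (n := n))
      one_mem' := ⟨0, (hol n).ι_zero⟩
      mul_mem' := by rintro _ _ ⟨a, rfl⟩ ⟨b, rfl⟩; exact ⟨a + b, (hol n).ι_add a b⟩
      inv_mem' := by
        rintro _ ⟨a, rfl⟩
        refine ⟨a, eq_inv_of_mul_eq_one_left ?_⟩
        rw [← (hol n).ι_add, show a + a = 0 from funext fun i => CharTwo.add_self_eq_zero _, (hol n).ι_zero] }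
  have hUc : Nat.card U = 2 ^ (n + 1) := by
    show Nat.card (Set.range (shear (n := n))) = _
    rw [Nat.card_range_of_injective (hol n).ι_inj, Nat.card_fun, Nat.card_zmod, Nat.card_fin]
  set U₁ := U.map (para n).subtype with hU₁
  have hU₁c : Nat.card U₁ = 2 ^ (n + 1) := by
    rw [Subgroup.card_map_of_injective (para n).subtype_injective, hUc]
  have hU₁e : Cfsg.IsElementaryAbelian 2 U₁ := by
    refine ⟨⟨⟨fun a b => ?_⟩⟩, ?_⟩
    · obtain ⟨_, _, ⟨x, rfl⟩, rfl⟩ := a
      obtain ⟨_, _, ⟨y, rfl⟩, rfl⟩ := b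
      refine Subtype.ext ?_
      show ((shear x : para n) : SLG n) * (shear y : para n) = (shear y : para n) * (shear x : para n)
      rw [← Subgroup.coe_mul, ← (hol n).ι_add, add_comm x y, (hol n).ι_add, Subgroup.coe_mul]
    · rintro _ ⟨_, ⟨x, rfl⟩, rfl⟩
      rw [← map_pow, pow_two, ← (hol n).ι_add, show x + x = 0 from funext fun i => CharTwo.add_self_eq_zero _,
        (hol n).ι_zero, map_one]
  have hUQ : U₁ ≤ Q := hQQ ▸ Subgroup.map_mono (fun u hu => hιQ hu)
  have hzQ : ((z₀ : para n) : SLG n) ∈ Q'.map (para n).subtype := ⟨z₀, hιQ ⟨_, rfl⟩, rfl⟩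
  have hzp : Subgroup.zpowers z = (Subgroup.zpowers z₀).map (para n).subtype := by
    rw [MonoidHom.map_zpowers]; exact congrArg _ hzz.symm
  have hcen' : (Subgroup.center ↥(Q'.map (para n).subtype)).map (Q'.map (para n).subtype).subtype =
      Subgroup.zpowers z := by
    ext g
    rw [LargeExtra.Basic.mem_centerMap]
    constructor
    · rintro ⟨⟨g, hg, rfl⟩, hc⟩
      have : g ∈ (Subgroup.center ↥Q').map Q'.subtype := LargeExtra.Basic.mem_centerMap.2 ⟨hg, fun y hy =>
        Subtype.ext (hc y ⟨y, hy, rfl⟩)⟩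
      rw [hcen] at this
      rw [hzp]
      exact ⟨g, this, rfl⟩
    · rintro hg
      rw [hzp, ← hcen] at hg
      obtain ⟨g, hg, rfl⟩ := hg
      obtain ⟨hgQ, hc⟩ := LargeExtra.Basic.mem_centerMap.1 hg
      refine ⟨⟨g, hgQ, rfl⟩, ?_⟩
      rintro _ ⟨y, hy, rfl⟩
      exact congrArg Subtype.val (hc y hy)
  subst hQQ
  refine ⟨hexQ, ?_, ⟨U₁, hUQ, hU₁e, hU₁c⟩, ⟨hexQ, ?_, ?_, fun L hLodd hQL => ?_⟩,
    K.map (para n).subtype, ?_, ?_, ?_, ⟨((K.equivMapOfInjective _ (para n).subtype_injective).symm.trans eK).trans (glSL n)⟩⟩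
  · rw [Subgroup.card_map_of_injective (para n).subtype_injective, hcard]
  · rw [hcen']
    ext g
    constructor
    · intro hg
      have hgC : g ∈ C := Subgroup.mem_centralizer_singleton_iff.2
        (hzz ▸ (Subgroup.mem_centralizer_iff.1 hg _ hzQ).symm)
      have : (⟨g, hCP hgC⟩ : para n) ∈ Subgroup.centralizer (Q' : Set (para n)) :=
        Subgroup.mem_centralizer_iff.2 fun q hq => Subtype.ext (Subgroup.mem_centralizer_iff.1 hg q ⟨q, hq, rfl⟩)
      rw [hcentQ] at this
      rw [hzp]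
      exact ⟨_, this, rfl⟩
    · intro hg
      rw [hzp, ← hcentQ] at hg
      obtain ⟨g, hg, rfl⟩ := hg
      refine Subgroup.mem_centralizer_iff.2 ?_
      rintro _ ⟨q, hq, rfl⟩
      exact congrArg Subtype.val (Subgroup.mem_centralizer_iff.1 hg q hq)
  · rw [hcen', Subgroup.zpowers_eq_closure, Subgroup.centralizer_closure, ← hC, ← hCmap]
    rintro _ ⟨g, hg, rfl⟩
    refine Subgroup.mem_normalizer_fintype ?_
    rintro _ ⟨q, hq, rfl⟩
    exact ⟨g * q * g⁻¹, (Subgroup.mem_normalizer_iff.1 (hnorm hg) q).1 hq, rfl⟩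
  · haveI := hU₁e.1
    have hcyc : ¬ IsCyclic U₁ := fun hcy => by
      haveI := hcy
      have h1 : Monoid.exponent U₁ ∣ 2 := Monoid.exponent_dvd_of_forall_pow_eq_one fun u => Subtype.ext (hU₁e.2 _ u.2)
      rw [IsCyclic.exponent_eq_card, hU₁c] at h1
      have := Nat.le_of_dvd two_pos h1
      have := Nat.pow_le_pow_right two_pos (show 2 ≤ n + 1 by omega)
      omega
    have hgen := Cfsg.Agent.Lib.Coprime.iSup_centralizer_eq hcyc (K := L) (hUQ.trans hQL)
      (by rw [hU₁c]; exact Nat.Coprime.pow_left _ (Nat.coprime_two_left.2 hLodd))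
    have hLU : L ⊓ U₁ = ⊥ := LargeExtra.Basic.odd_inf_two_eq_bot hLodd (IsPGroup.of_card hU₁c)
    refine le_bot_iff.1 (hgen ▸ iSup₂_le fun u hu => ?_)
    obtain ⟨⟨_, ⟨a, rfl⟩, rfl⟩, hu1⟩ := hu
    rintro k ⟨hkL, hku⟩
    -- the centraliser of a translation preserves the hyperplane
    have ha : a ≠ 0 := fun e => hu1 (by rw [e, (hol n).ι_zero, map_one])
    have hia : inc a ≠ 0 := fun e => ha (by rw [← res_inc a, e, map_zero])
    have key : ∀ x : Big n, x 1 • ((k : Matrix (Fin (n + 2)) (Fin (n + 2)) F2) *ᵥ inc a) =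
        ((k : Matrix (Fin (n + 2)) (Fin (n + 2)) F2) *ᵥ x) 1 • inc a := fun x => by
      have := congrArg (fun b : SLG n => (b : Matrix (Fin (n + 2)) (Fin (n + 2)) F2) *ᵥ x)
        (Subgroup.mem_centralizer_singleton_iff.1 hku)
      simp only [mul_mulVec, Subgroup.coe_subtype, shear_mulVec, Matrix.mulVec_add, Matrix.mulVec_smul] at this
      exact add_left_cancel this
    have hkP : k ∈ para n := by
      have h0 := key (one1 n)
      rw [show one1 n 1 = 1 by simp [one1], one_smul] at h0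
      rcases f2cases (((k : Matrix (Fin (n + 2)) (Fin (n + 2)) F2) *ᵥ one1 n) 1)
        with hc | hc <;> rw [hc] at h0
      · rw [zero_smul] at h0
        refine absurd ?_ hia
        rw [← inv_mulVec' k (inc a), h0, Matrix.mulVec_zero]
      · intro x
        have h2 := key x
        rw [h0, one_smul] at h2
        exact (smul_left_injective F2 hia h2).symm
    have hρ : act ⟨k, hkP⟩ = 1 := LinearEquiv.ext fun v => (hol n).ι_inj (by
      rw [← (hol n).conj]
      have hv : ((shear v : para n) : SLG n) ∈ U₁ := ⟨_, ⟨v, rfl⟩, rfl⟩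
      have h1 : k * ((shear v : para n) : SLG n) * k⁻¹ * ((shear v : para n) : SLG n)⁻¹ ∈ L ⊓ U₁ := by
        refine ⟨?_, U₁.mul_mem ?_ (U₁.inv_mem hv)⟩
        · rw [show k * ((shear v : para n) : SLG n) * k⁻¹ * ((shear v : para n) : SLG n)⁻¹ =
            k * (((shear v : para n) : SLG n) * k⁻¹ * ((shear v : para n) : SLG n)⁻¹) by group]
          exact L.mul_mem hkL ((Subgroup.mem_normalizer_iff.1 (hQL (hUQ hv)) k⁻¹).1 (L.inv_mem hkL))
        · exact ⟨_, ⟨act ⟨k, hkP⟩ v, rfl⟩, (congrArg Subtype.val ((hol n).conj ⟨k, hkP⟩ v)).symm⟩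
      rw [hLU, Subgroup.mem_bot, mul_inv_eq_one] at h1
      exact Subtype.ext h1)
    obtain ⟨v, hv⟩ := ((hol n).ker _).1 hρ
    have : k ∈ L ⊓ U₁ := ⟨hkL, shear v, ⟨v, rfl⟩, congrArg Subtype.val hv⟩
    rwa [hLU] at this
  · rw [← hCmap]
    exact Subgroup.map_mono hKC
  · rw [← Subgroup.map_inf_eq _ _ (para n).subtype (para n).subtype_injective, hQK, Subgroup.map_bot]
  · rw [← Subgroup.map_sup, hQK', hCmap]

end Cfsg.Agent.Lib.Holomorph83
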