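import Cfsg.Agent.S5423
import Cfsg.Agent.Lib.Holomorph83.InSL
import Cfsg.Agent.Lib.SporStruct.OctadStab
import Cfsg.Agent.Lib.MathieuBlocks.OctadCentralizer
import Cfsg.Agent.Lib.GL4Two
import Cfsg.Agent.Lib.Coprime.Generation
import Cfsg.Agent.Lib.FusionP3.GenExtra.Iso
import Cfsg.Agent.Lib.Cores.Basic
import Mathlib

/-!
# The octad stabiliser of `M24` as the holomorph of `E₁₆`

Owner: helper83.
-/

set_option autoImplicit false
set_option linter.style.haveILetI false

namespace Cfsg.Agent.Lib.Holomorph83.Mathieu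

open Cfsg Cfsg.Agent.Lib.Golay Cfsg.Agent.Lib.SporStruct.OctadStab
open scoped Pointwise

/-- The number of automorphisms of an elementary abelian group of order 16. -/
theorem card_aut_le {U : Type*} [Group U] [Finite U] (hc : ∀ a b : U, a * b = b * a)
    (h2 : ∀ a : U, a ^ 2 = 1) (hcard : Nat.card U = 16) : Nat.card (MulAut U) ≤ 20160 := by
  haveI : Fact (Nat.Prime 2) := ⟨Nat.prime_two⟩
  letI : CommGroup U := { (inferInstance : Group U) with mul_comm := hc }
  letI : Module F2 (Additive U) := AddCommGroup.zmodModule (n := 2) (fun x => by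
    refine Additive.toMul.injective ?_
    show (Additive.toMul x) ^ 2 = 1
    exact h2 _)
  haveI : Module.Finite F2 (Additive U) := Module.Finite.of_finite
  have hrank : Module.finrank F2 (Additive U) = 4 := by
    have h := Module.natCard_eq_pow_finrank (K := F2) (V := Additive U)
    rw [Nat.card_congr Additive.toMul, hcard, Nat.card_zmod] at h
    exact (Nat.pow_right_injective le_rfl (show 2 ^ 4 = 2 ^ _ from h)).symm
  let e : Additive U ≃ₗ[F2] Vec 4 := LinearEquiv.ofFinrankEq _ _ (by rw [hrank, Module.finrank_fin_fun])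
  let f : MulAut U → Matrix.GeneralLinearGroup (Fin 4) F2 := fun φ =>
    linGL 4 ((e.symm.trans ((MulEquiv.toAdditive φ).toLinearEquiv
      (fun c x => ZMod.map_smul (MulEquiv.toAdditive φ).toAddMonoidHom c x))).trans e)
  rw [← Cfsg.Agent.Lib.GL4Two.card_GL]
  refine Nat.card_le_card_of_injective f fun φ ψ h => MulEquiv.ext fun u => ?_
  have := LinearEquiv.congr_fun ((linGL 4).injective h) (e (Additive.ofMul u))
  simp only [LinearEquiv.trans_apply, LinearEquiv.symm_apply_apply] at this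
  exact congrArg Additive.toMul (e.injective this)

theorem card_pointStab {o : Finset GolayPt} (ho : o ∈ octads) {p : GolayPt} (hp : p ∉ o) :
    Nat.card (pointStab o p) = 20160 := by
  obtain ⟨e⟩ := pointStab_equiv ho hp
  rw [Nat.card_congr e.toEquiv, nat_card_alternatingGroup, Nat.card_fin]
  rfl

/-- The main theorem: the centraliser of an involution fixing an octad. -/
theorem result_core (z : ↥M24) (hz : orderOf z = 2) (o : Finset GolayPt)
    (hfix : ∀ p, p ∈ o ↔ (z : Equiv.Perm GolayPt) p = p) (ho : o ∈ octads) (Q : Subgroup ↥M24)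
    (hQ : Q = (Cfsg.pCore 2 ↥(Subgroup.centralizer ({z} : Set ↥M24))).map
      (Subgroup.centralizer ({z} : Set ↥M24)).subtype) :
    Cfsg.IsExtraspecial 2 ↥Q ∧ Nat.card ↥Q = 2 ^ 7 ∧
      (∃ E : Subgroup ↥M24, E ≤ Q ∧ Cfsg.IsElementaryAbelian 2 E ∧ Nat.card ↥E = 2 ^ 4) ∧
      Cfsg.IsLargeExtraspecial Q ∧ ∃ K : Subgroup ↥M24, K ≤ Subgroup.centralizer ({z} : Set ↥M24) ∧
        Q ⊓ K = ⊥ ∧ Q ⊔ K = Subgroup.centralizer ({z} : Set ↥M24) ∧
        Nonempty (↥K ≃* Matrix.SpecialLinearGroup (Fin 3) (ZMod 2)) := by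
  haveI : Fact (Nat.Prime 2) := ⟨Nat.prime_two⟩
  obtain ⟨p, hp⟩ : ∃ p, p ∉ o := by
    by_contra h
    push Not at h
    have := ho.2
    rw [Finset.eq_univ_of_forall h, Finset.card_univ, card_golayPt] at this
    norm_num at this
  set S : Subgroup ↥M24 := (octadStab o).subgroupOf M24 with hS
  let U : Subgroup ↥S := ((octadFix o).subgroupOf M24).subgroupOf S
  let M : Subgroup ↥S := ((pointStab o p).subgroupOf M24).subgroupOf S
  have hmemU : ∀ g : S, g ∈ U ↔ ((g : ↥M24) : Equiv.Perm GolayPt) ∈ octadFix o := fun _ => Iff.rfl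
  have hmemM : ∀ g : S, g ∈ M ↔ ((g : ↥M24) : Equiv.Perm GolayPt) ∈ pointStab o p := fun _ => Iff.rfl
  haveI hUn : U.Normal := ⟨fun u hu g => by
    rw [hmemU] at hu ⊢
    rw [octadFix_conj g.1.2 g.2.2]
    exact ⟨_, hu, rfl⟩⟩
  have hfixcard : Nat.card U = 16 := by
    rw [Nat.card_congr (Subgroup.subgroupOfEquivOfLe (G := ↥M24) (fun g hg => fix_le hg)).toEquiv,
      Nat.card_congr (Subgroup.subgroupOfEquivOfLe (fun g hg => (mem_octadFix.1 hg).1)).toEquiv,
      (octadFix_spec ho).1]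
  have hsq : ∀ u ∈ U, u ^ 2 = 1 := fun u hu => Subtype.ext (Subtype.ext (by
    rw [pow_two]
    exact (octadFix_spec ho).2 _ hu))
  have hUe : Cfsg.IsElementaryAbelian 2 U := by
    refine ⟨⟨⟨fun a b => Subtype.ext ?_⟩⟩, hsq⟩
    have h1 := hsq _ (U.mul_mem a.2 b.2)
    have ha := hsq _ a.2
    have hb := hsq _ b.2
    rw [pow_two] at h1 ha hb
    calc (a : S) * b = ((a : S) * b)⁻¹ := (inv_eq_of_mul_eq_one_right h1).symm
      _ = b * a := by rw [mul_inv_rev, inv_eq_of_mul_eq_one_right ha, inv_eq_of_mul_eq_one_right hb]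
  have hUM : U ⊓ M = ⊥ := by
    rw [Subgroup.eq_bot_iff_forall]
    rintro g ⟨hg, hgM⟩
    refine Subtype.ext (Subtype.ext ?_)
    have : ((g : ↥M24) : Equiv.Perm GolayPt) ∈ octadFix o ⊓ pointStab o p := ⟨hg, hgM⟩
    rwa [fix_inf ho hp] at this
  have hUM' : U ⊔ M = ⊤ := by
    refine eq_top_iff.2 fun g _ => ?_
    have hgp : ((g : ↥M24) : Equiv.Perm GolayPt) p ∉ o := fun h => hp ((smul_eq_iff.1 g.2.2 p).1 h)
    obtain ⟨k, hk, hkp⟩ := exists_fix_move ho hp hgp
    let k' : S := ⟨⟨k, (mem_octadFix.1 hk).1⟩, fix_le hk⟩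
    have hk' : k' ∈ U := hk
    have hm : k'⁻¹ * g ∈ M := by
      rw [hmemM]
      refine ⟨(k'⁻¹ * g).2, ?_⟩
      show (k⁻¹ * ((g : ↥M24) : Equiv.Perm GolayPt)) • p = p
      rw [mul_smul, inv_smul_eq_iff]
      exact hkp.symm
    rw [← mul_inv_cancel_left k' g]
    exact Subgroup.mul_mem_sup hk' hm
  have hfaith : ∀ m ∈ M, (∀ u ∈ U, m * u * m⁻¹ = u) → m = 1 := by
    intro m hm h
    have hmf : ((m : ↥M24) : Equiv.Perm GolayPt) ∈ octadFix o :=
      MathieuBlocks.OctadCentralizer.mem_octadFix_of_commute ho m.1.2 m.2.2 fun g hg => by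
        have := congrArg (fun x : S => ((x : ↥M24) : Equiv.Perm GolayPt))
          (mul_inv_eq_iff_eq_mul.1 (h ⟨⟨g, (mem_octadFix.1 hg).1⟩, fix_le hg⟩ hg))
        exact this
    have : m ∈ U ⊓ M := ⟨hmf, hm⟩
    rwa [hUM] at this
  have hfull : ∀ φ : ↥U ≃* ↥U, ∃ m ∈ M, ∀ u : ↥U, ((φ u : ↥U) : S) = m * u * m⁻¹ := by
    let F : M →* MulAut U := (MulAut.conjNormal : S →* MulAut U).comp M.subtype
    have hinj : Function.Injective F := by
      rw [injective_iff_map_eq_one]
      intro m hm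
      refine Subtype.ext (hfaith m m.2 fun u hu => ?_)
      have := congrArg Subtype.val (DFunLike.congr_fun hm (⟨u, hu⟩ : U))
      rwa [MonoidHom.comp_apply, MulAut.conjNormal_apply] at this
    have hMc : Nat.card M = 20160 := by
      rw [Nat.card_congr (Subgroup.subgroupOfEquivOfLe (G := ↥M24) (fun g hg => pointStab_le p hg)).toEquiv,
        Nat.card_congr (Subgroup.subgroupOfEquivOfLe (fun g (hg : g ∈ pointStab o p) => hg.1.1)).toEquiv, card_pointStab ho hp]
    have hle := card_aut_le (fun a b : U => hUe.1.is_comm.comm a b)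
      (fun a : U => Subtype.ext (hsq _ a.2)) hfixcard
    have hsurj : Function.Surjective F := (hinj.bijective_of_nat_card_le (by rw [hMc]; exact hle)).2
    intro φ
    obtain ⟨m, rfl⟩ := hsurj φ
    exact ⟨m, m.2, fun u => MulAut.conjNormal_apply (m : S) u⟩
  have hzo : (z : Equiv.Perm GolayPt) ∈ octadFix o := mem_octadFix.2 ⟨z.2, fun q hq => (hfix q).1 hq⟩
  let z₀ : S := ⟨z, fix_le hzo⟩
  have hz₀ : orderOf z₀ = 2 := by rw [← hz]; exact (Subgroup.orderOf_coe z₀).symm
  -- centralisers of non-trivial elements of the translation group stay in the octad stabiliser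
  have hcen : ∀ u : ↥M24, (u : Equiv.Perm GolayPt) ∈ octadFix o → u ≠ 1 → ∀ k : ↥M24,
      k * u = u * k → k ∈ S := by
    intro u hu hu1 k hk
    refine ⟨k.2, smul_eq_iff.2 fun x => ?_⟩
    have hf : ∀ y, y ∈ o ↔ (u : Equiv.Perm GolayPt) y = y := fun y =>
      ⟨(mem_octadFix.1 hu).2 y, fun h => by
        by_contra hy
        exact hu1 (Subtype.ext (fix_eq_one ho hu hy h))⟩
    have hku : ∀ y, (k : Equiv.Perm GolayPt) ((u : Equiv.Perm GolayPt) y) =
        (u : Equiv.Perm GolayPt) ((k : Equiv.Perm GolayPt) y) := fun y =>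
      DFunLike.congr_fun (congrArg Subtype.val hk) y
    rw [hf, hf]
    show (u : Equiv.Perm GolayPt) ((k : Equiv.Perm GolayPt) x) = (k : Equiv.Perm GolayPt) x ↔ _
    rw [← hku]
    exact (k : Equiv.Perm GolayPt).injective.eq_iff
  have hz1 : z ≠ 1 := fun h => by rw [h, orderOf_one] at hz; omega
  set C : Subgroup ↥M24 := Subgroup.centralizer ({z} : Set ↥M24) with hC
  set C₀ : Subgroup S := Subgroup.centralizer ((Subgroup.zpowers z₀ : Subgroup S) : Set S) with hC₀
  have hC₀' : C₀ = Subgroup.centralizer ({z₀} : Set S) := by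
    rw [hC₀, Subgroup.zpowers_eq_closure, Subgroup.centralizer_closure]
  have hCS : C ≤ S := fun k hk => hcen z hzo hz1 k (Subgroup.mem_centralizer_singleton_iff.1 hk)
  have hCmap : C₀.map S.subtype = C := by
    rw [hC₀']
    ext g
    constructor
    · rintro ⟨g, hg, rfl⟩
      exact Subgroup.mem_centralizer_singleton_iff.2
        (congrArg Subtype.val (Subgroup.mem_centralizer_singleton_iff.1 hg))
    · intro hg
      exact ⟨⟨g, hCS hg⟩, Subgroup.mem_centralizer_singleton_iff.2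
        (Subtype.ext (Subgroup.mem_centralizer_singleton_iff.1 hg)), rfl⟩
  obtain ⟨hex, hcard, ⟨E, hEQ, hEe, hEc⟩, hlarge, K, hKC, hQK, hQK', ⟨eK⟩⟩ :=
    Cfsg.Agent.S5423.result 3 (by norm_num) U M hUe hfixcard hUM hUM' hfaith hfull
      (Subgroup.zpowers z₀) (Subgroup.zpowers_le.2 hzo) (by rw [Nat.card_zpowers, hz₀]) _ rfl
  set Q₀ := (Cfsg.pCore 2 C₀).map C₀.subtype with hQ₀
  have hQQ : Q = Q₀.map S.subtype := by
    let e : C₀ ≃* C := (C₀.equivMapOfInjective _ S.subtype_injective).trans (MulEquiv.subgroupCongr hCmap)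
    rw [hQ, hQ₀, ← Cfsg.Agent.Lib.Cores.map_pCore_equiv (p := 2) e, Subgroup.map_map, Subgroup.map_map]
    rfl
  subst hQQ
  let φ := Q₀.equivMapOfInjective S.subtype S.subtype_injective
  have hexQ : Cfsg.IsExtraspecial 2 ↥(Q₀.map S.subtype) := FusionP3.GenExtra.isExtraspecial_congr φ hex
  obtain ⟨-, hcentQ, hnorm, hodd⟩ := hlarge
  have hQC : Q₀.map S.subtype ≤ C := hCmap ▸ Subgroup.map_mono (Subgroup.map_subtype_le _)
  have hcen0 : (Subgroup.center Q₀).map Q₀.subtype = Subgroup.zpowers z₀ := by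
    refine (Subgroup.eq_of_le_of_card_ge (Subgroup.zpowers_le.2 ?_) ?_).symm
    · refine LargeExtra.Basic.mem_centerMap.2 ⟨?_, fun y hy => ?_⟩
      · have hzc : z₀ ∈ Subgroup.centralizer (Q₀ : Set S) := Subgroup.mem_centralizer_iff.2 fun q hq => by
          have hq' := (Subgroup.map_subtype_le _ hq : q ∈ C₀)
          rw [hC₀'] at hq'
          exact Subgroup.mem_centralizer_singleton_iff.1 hq'
        rw [hcentQ] at hzc
        exact LargeExtra.Basic.centerMap_le _ hzc
      · have hy' := (Subgroup.map_subtype_le _ hy : y ∈ C₀)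
        rw [hC₀'] at hy'
        exact Subgroup.mem_centralizer_singleton_iff.1 hy'
    · rw [LargeExtra.Basic.card_centerMap hex, Nat.card_zpowers, hz₀]
  have hcenQ : (Subgroup.center ↥(Q₀.map S.subtype)).map (Q₀.map S.subtype).subtype = Subgroup.zpowers z := by
    have hzp : Subgroup.zpowers z = (Subgroup.zpowers z₀).map S.subtype := by
      rw [MonoidHom.map_zpowers]; rfl
    refine (Subgroup.eq_of_le_of_card_ge (Subgroup.zpowers_le.2 ?_) ?_).symm
    · refine LargeExtra.Basic.mem_centerMap.2 ⟨⟨z₀, ?_, rfl⟩, fun y hy => ?_⟩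
      · exact LargeExtra.Basic.centerMap_le _ (hcen0.symm ▸ Subgroup.mem_zpowers z₀)
      · exact Subgroup.mem_centralizer_singleton_iff.1 (hQC hy)
    · rw [LargeExtra.Basic.card_centerMap hexQ, Nat.card_zpowers, hz]
  refine ⟨hexQ, by rw [Subgroup.card_map_of_injective S.subtype_injective, hcard],
    ⟨E.map S.subtype, Subgroup.map_mono hEQ, ?_, by rw [Subgroup.card_map_of_injective S.subtype_injective, hEc]⟩,
    ⟨hexQ, ?_, ?_, fun L hLodd hQL => ?_⟩,
    K.map S.subtype, ?_, ?_, ?_, ⟨((K.equivMapOfInjective _ S.subtype_injective).symm.trans eK).trans (glSL 3)⟩⟩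
  · refine ⟨⟨⟨fun a b => Subtype.ext ?_⟩⟩, ?_⟩
    · obtain ⟨_, x, hx, rfl⟩ := a
      obtain ⟨_, y, hy, rfl⟩ := b
      exact congrArg S.subtype (congrArg Subtype.val (hEe.1.is_comm.comm ⟨x, hx⟩ ⟨y, hy⟩))
    · rintro _ ⟨x, hx, rfl⟩
      rw [← map_pow, hEe.2 x hx, map_one]
  · rw [hcenQ]
    refine le_antisymm (fun g hg => ?_) (Subgroup.zpowers_le.2 (Subgroup.mem_centralizer_iff.2 fun q hq =>
      Subgroup.mem_centralizer_singleton_iff.1 (hQC hq)))
    have hzQ : z ∈ Q₀.map S.subtype := LargeExtra.Basic.centerMap_le _ (hcenQ.symm ▸ Subgroup.mem_zpowers z)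
    have hgC : g ∈ C := Subgroup.mem_centralizer_singleton_iff.2 (Subgroup.mem_centralizer_iff.1 hg z hzQ).symm
    have : (⟨g, hCS hgC⟩ : S) ∈ Subgroup.centralizer (Q₀ : Set S) :=
      Subgroup.mem_centralizer_iff.2 fun q hq => Subtype.ext (Subgroup.mem_centralizer_iff.1 hg q ⟨q, hq, rfl⟩)
    rw [hcentQ, hcen0] at this
    obtain ⟨i, hi⟩ := this
    exact ⟨i, congrArg Subtype.val hi⟩
  · rw [hcenQ, Subgroup.zpowers_eq_closure, Subgroup.centralizer_closure, ← hC, ← hCmap]
    rintro _ ⟨g, hg, rfl⟩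
    refine Subgroup.mem_normalizer_fintype ?_
    rintro _ ⟨q, hq, rfl⟩
    rw [hcen0] at hnorm
    exact ⟨g * q * g⁻¹, (Subgroup.mem_normalizer_iff.1 (hnorm (by rwa [← hC₀])) q).1 hq, rfl⟩
  · -- odd subgroups normalised by `Q`
    have hUQ : U ≤ Q₀ := by
      intro u hu
      have : u ∈ C₀ := by
        rw [hC₀', Subgroup.mem_centralizer_singleton_iff]
        exact congrArg Subtype.val (hUe.1.is_comm.comm ⟨u, hu⟩ ⟨z₀, hzo⟩)
      refine ⟨⟨u, this⟩, ?_, rfl⟩
      exact (le_sSup ⟨(inferInstance : (U.subgroupOf C₀).Normal), (IsPGroup.of_card (n := 4)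
        hfixcard : IsPGroup 2 U).comap_subtype⟩ : U.subgroupOf C₀ ≤ Cfsg.pCore 2 C₀) hu
    set U₁ := U.map S.subtype with hU₁
    haveI : IsMulCommutative U₁ := ⟨⟨fun a b => by
      obtain ⟨_, x, hx, rfl⟩ := a
      obtain ⟨_, y, hy, rfl⟩ := b
      exact Subtype.ext (congrArg S.subtype (congrArg Subtype.val (hUe.1.is_comm.comm ⟨x, hx⟩ ⟨y, hy⟩)))⟩⟩
    have hU₁c : Nat.card U₁ = 2 ^ 4 := by rw [Subgroup.card_map_of_injective S.subtype_injective, hfixcard]; rfl
    have hcyc : ¬ IsCyclic U₁ := fun hcy => by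
      haveI := hcy
      have h1 : Monoid.exponent U₁ ∣ 2 := Monoid.exponent_dvd_of_forall_pow_eq_one fun u => by
        obtain ⟨_, x, hx, rfl⟩ := u
        exact Subtype.ext (congrArg S.subtype (hsq x hx))
      rw [IsCyclic.exponent_eq_card, hU₁c] at h1
      exact absurd (Nat.le_of_dvd two_pos h1) (by norm_num)
    have hUQ1 : U₁ ≤ Q₀.map S.subtype := Subgroup.map_mono hUQ
    have hgen := Cfsg.Agent.Lib.Coprime.iSup_centralizer_eq hcyc (K := L) (hUQ1.trans hQL)
      (by rw [hU₁c]; exact Nat.Coprime.pow_left _ (Nat.coprime_two_left.2 hLodd))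
    have hLS : L ≤ S := hgen ▸ iSup₂_le fun u hu => by
      obtain ⟨⟨x, hx, rfl⟩, hu1⟩ := hu
      rintro k ⟨-, hk⟩
      exact hcen _ hx hu1 k (Subgroup.mem_centralizer_singleton_iff.1 hk)
    have hL0 : L.subgroupOf S = ⊥ := hodd _
      (by rw [Nat.card_congr (Subgroup.subgroupOfEquivOfLe hLS).toEquiv]; exact hLodd)
      (fun q hq => Subgroup.mem_normalizer_iff.2 fun x =>
        Subgroup.mem_normalizer_iff.1 (hQL ⟨q, hq, rfl⟩) (x : ↥M24))
    refine (Subgroup.eq_bot_iff_forall _).2 fun l hl => ?_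
    have : (⟨l, hLS hl⟩ : S) ∈ L.subgroupOf S := hl
    rw [hL0, Subgroup.mem_bot] at this
    exact congrArg Subtype.val this
  · rw [← hCmap]
    exact Subgroup.map_mono hKC
  · rw [← Subgroup.map_inf_eq _ _ S.subtype S.subtype_injective, hQK, Subgroup.map_bot]
  · rw [← Subgroup.map_sup, hQK', hCmap]

end Cfsg.Agent.Lib.Holomorph83.Mathieu
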